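import Cfsg.Agent.Lib.MaxClassGood.Exponent
import Cfsg.Prelude.Def_CaseTheorems

/-! Power index and sectional rank of `p`-groups of maximal class. -/

set_option autoImplicit false

namespace CfsgLib.MaxClassGood

open scoped commutatorElement
open Subgroup
open CfsgLib.PolySeq (fil fil_antitone fil_commutator_mem)

universe u

variable {S : Type u} [Group S] [Finite S] {p : ℕ} [hp : Fact p.Prime] {n : ℕ}
  (hn : 3 ≤ n) (hG : Nat.card S = p ^ n) (hc : Group.nilpotencyClass S = n - 1)

include hn hG hc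

omit hn hc in
/-- A strict inclusion gains a factor `p`. -/
theorem card_grow {A B : Subgroup S} (hAB : A < B) : Nat.card A * p ≤ Nat.card B := by
  obtain ⟨a, -, ha⟩ := (Nat.dvd_prime_pow hp.out).mp (hG ▸ card_subgroup_dvd_card A)
  obtain ⟨b, -, hb⟩ := (Nat.dvd_prime_pow hp.out).mp (hG ▸ card_subgroup_dvd_card B)
  have h1 : Nat.card A < Nat.card B :=
    lt_of_le_of_ne (card_le_of_le hAB.le) fun e => hAB.ne (eq_of_le_of_card_ge hAB.le e.ge)
  rw [ha, hb, Nat.pow_lt_pow_iff_right hp.out.one_lt] at h1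
  rw [ha, hb, ← pow_succ]
  exact Nat.pow_le_pow_right hp.out.pos h1

/-- The order of a subgroup of the derived subgroup counts the layers it meets. -/
theorem card_layers (A : Subgroup S) (I : Finset ℕ)
    (hI : ∀ j, j ∈ I ↔ 2 ≤ j ∧ j < n ∧ ∃ h ∈ A, h ∈ fil S j ∧ h ∉ fil S (j + 1)) :
    Nat.card ↥(A ⊓ fil S 2) = p ^ I.card := by
  suffices h : ∀ d j, n ≤ j + d → 2 ≤ j → Nat.card ↥(A ⊓ fil S j) = p ^ (I.filter fun i => j ≤ i).card by
    have h2 := h n 2 (by omega) le_rfl
    rwa [Finset.filter_true_of_mem fun i hi => ((hI i).mp hi).1] at h2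
  intro d
  induction d with
  | zero =>
    intro j hj _
    rw [CfsgLib.MaxClassRank.fil_eq_bot hn hG hc (by omega), inf_bot_eq, card_bot, Finset.filter_false_of_mem,
      Finset.card_empty, pow_zero]
    intro i hi h
    have := ((hI i).mp hi).2.1
    omega
  | succ d ih =>
    intro j hj hj2
    have hle : A ⊓ fil S (j + 1) ≤ A ⊓ fil S j := inf_le_inf_left _ (fil_antitone (Nat.le_succ j))
    by_cases hjI : j ∈ I
    · obtain ⟨-, hjn, h, hhA, hh, hh'⟩ := (hI j).mp hjI
      have hlt : A ⊓ fil S (j + 1) < A ⊓ fil S j := lt_of_le_of_ne hle fun e => hh' (e.ge ⟨hhA, hh⟩).2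
      have hup : Nat.card ↥(A ⊓ fil S j) ≤ p * Nat.card ↥(A ⊓ fil S (j + 1)) := by
        have h1 : (fil S (j + 1)).relIndex (A ⊓ fil S j) ≤ (fil S (j + 1)).relIndex (fil S j) :=
          Subgroup.relIndex_le_of_le_right inf_le_right (Subgroup.index_ne_zero_of_finite)
        have h2 : (fil S (j + 1)).relIndex (fil S j) = p := by
          have h := ((fil S (j + 1)).subgroupOf (fil S j)).card_mul_index
          rw [Nat.card_congr (subgroupOfEquivOfLe (fil_antitone (Nat.le_succ j))).toEquiv,
            CfsgLib.MaxClassRank.card_fil hn hG hc (by omega) (by omega),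
            CfsgLib.MaxClassRank.card_fil hn hG hc hj2 hjn.le, show n - j = n - (j + 1) + 1 by omega, pow_succ] at h
          exact Nat.eq_of_mul_eq_mul_left (pow_pos hp.out.pos _) h
        have h3 := ((fil S (j + 1)).subgroupOf (A ⊓ fil S j)).card_mul_index
        rw [show ((fil S (j + 1)).subgroupOf (A ⊓ fil S j)).index = (fil S (j + 1)).relIndex (A ⊓ fil S j) from rfl] at h3
        have h4 : Nat.card ((fil S (j + 1)).subgroupOf (A ⊓ fil S j)) = Nat.card ↥(A ⊓ fil S (j + 1)) := by
          rw [← inf_subgroupOf_left, inf_assoc, inf_eq_right.mpr (fil_antitone (Nat.le_succ j))]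
          exact Nat.card_congr (subgroupOfEquivOfLe hle).toEquiv
        rw [← h3, h4, mul_comm]
        exact Nat.mul_le_mul_right _ (h1.trans h2.le)
      have hdown := card_grow hG hlt
      rw [mul_comm] at hup
      have e := le_antisymm hup hdown
      rw [e, ih (j + 1) (by omega) (by omega), ← pow_succ]
      congr 1
      have : (I.filter fun i => j ≤ i) = insert j (I.filter fun i => j + 1 ≤ i) := by
        ext i
        simp only [Finset.mem_filter, Finset.mem_insert]
        constructor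
        · rintro ⟨h1, h2⟩
          by_cases hij : i = j
          · exact Or.inl hij
          · exact Or.inr ⟨h1, by omega⟩
        · rintro (rfl | ⟨h1, h2⟩)
          · exact ⟨hjI, le_rfl⟩
          · exact ⟨h1, by omega⟩
      rw [this, Finset.card_insert_of_notMem]
      simp
    · have e : A ⊓ fil S j = A ⊓ fil S (j + 1) := by
        refine le_antisymm (fun h hh => ⟨hh.1, ?_⟩) hle
        by_contra h'
        by_cases hjn : j < n
        · exact hjI ((hI j).mpr ⟨hj2, hjn, h, hh.1, hh.2, h'⟩)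
        · have h1 : h ∈ fil S j := hh.2
          rw [CfsgLib.MaxClassRank.fil_eq_bot hn hG hc (by omega), mem_bot] at h1
          exact h' (h1 ▸ one_mem _)
      rw [e, ih (j + 1) (by omega) (by omega)]
      congr 2
      refine Finset.filter_congr fun i hi => ⟨fun h => by omega, fun h => ?_⟩
      rcases eq_or_lt_of_le h with rfl | h'
      · exact absurd hi hjI
      · omega

/-- Powers cover all but `p - 1` layers. -/
theorem card_inf_le_powers (H : Subgroup S) : Nat.card ↥(H ⊓ fil S 2) ≤
    p ^ (p - 1) * Nat.card ↥(closure {y : S | ∃ h ∈ H, y = h ^ p} ⊓ fil S 2) := by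
  classical
  set U := closure {y : S | ∃ h ∈ H, y = h ^ p}
  let P : Subgroup S → ℕ → Prop := fun A j => 2 ≤ j ∧ j < n ∧ ∃ h ∈ A, h ∈ fil S j ∧ h ∉ fil S (j + 1)
  let I : Subgroup S → Finset ℕ := fun A => (Finset.range n).filter (P A)
  have hI : ∀ A j, j ∈ I A ↔ P A j := fun A j => by
    simp only [I, Finset.mem_filter, Finset.mem_range, and_iff_right_iff_imp]
    exact fun h => h.2.1
  rw [card_layers hn hG hc H (I H) (hI H), card_layers hn hG hc U (I U) (hI U), ← pow_add]
  refine Nat.pow_le_pow_right hp.out.pos ?_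
  have hsub : (I H).filter (fun j => j + (p - 1) < n) ⊆ (I U).image fun j => j - (p - 1) := by
    intro j hj
    obtain ⟨hj, hlt⟩ := Finset.mem_filter.mp hj
    obtain ⟨hj2, hjn, h, hhH, hh, hh'⟩ := (hI H j).mp hj
    obtain ⟨ha, hb⟩ := pow_shift hn hG hc hj2 hh
    refine Finset.mem_image.mpr ⟨j + (p - 1), (hI U _).mpr ⟨by omega, hlt, h ^ p, subset_closure ⟨h, hhH, rfl⟩, ha, ?_⟩,
      Nat.add_sub_cancel _ _⟩
    have := hp.out.two_le
    rw [show j + (p - 1) + 1 = j + p by omega]
    exact hb (by omega) hh'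
  have hrest : ((I H).filter fun j => ¬ j + (p - 1) < n).card ≤ p - 1 := by
    refine (Finset.card_le_card (t := Finset.Ico (n - (p - 1)) n) fun j hj => ?_).trans ?_
    · obtain ⟨hj, hlt⟩ := Finset.mem_filter.mp hj
      have := ((hI H j).mp hj).2.1
      rw [Finset.mem_Ico]
      omega
    · rw [Nat.card_Ico]; omega
  have h1 := (Finset.card_le_card hsub).trans Finset.card_image_le
  have h2 := Finset.card_filter_add_card_filter_not (s := I H) (fun j => j + (p - 1) < n)
  omega

/-- The index of the subgroup of `p`-th powers. -/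
theorem powers_relIndex_le (H : Subgroup S) :
    (closure {y : S | ∃ h ∈ H, y = h ^ p}).relIndex H ≤ p ^ p := by
  set U := closure {y : S | ∃ h ∈ H, y = h ^ p} with hU
  have hUH : U ≤ H := (closure_le _).mpr (by rintro _ ⟨h, hh, rfl⟩; exact pow_mem hh p)
  have hmul : Nat.card U * U.relIndex H = Nat.card H := by
    have h := (U.subgroupOf H).card_mul_index
    rwa [Nat.card_congr (subgroupOfEquivOfLe hUH).toEquiv] at h
  suffices hle : Nat.card H ≤ p ^ p * Nat.card U by
    rw [← hmul, mul_comm] at hle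
    exact Nat.le_of_mul_le_mul_right hle Nat.card_pos
  have hp2 := hp.out.two_le
  by_cases hH : H ⊔ fil S 2 = ⊤
  · rw [show fil S 2 = commutator S from Subgroup.top_lowerCentralSeries_one] at hH
    have hHtop : H = ⊤ := CfsgLib.Regular.eq_top_of_sup_commutator (IsPGroup.of_card hG) hH
    rw [hHtop, card_top, hG]
    rcases le_or_gt n p with h | h
    · exact (Nat.pow_le_pow_right hp.out.pos h).trans (Nat.le_mul_of_pos_right _ Nat.card_pos)
    have : U.Normal := ⟨fun u hu g => by
      have hmap : U.map (MulAut.conj g).toMonoidHom ≤ U := by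
        rw [hU, MonoidHom.map_closure, closure_le]
        rintro _ ⟨_, ⟨h, -, rfl⟩, rfl⟩
        exact subset_closure ⟨MulAut.conj g h, hHtop ▸ mem_top _, map_pow _ _ _⟩
      exact hmap ⟨u, hu, rfl⟩⟩
    obtain ⟨hQ1, hQ2⟩ := quot_data hn hG hc (m := p + 1) (by omega) h
    obtain ⟨s, hs⟩ := exists_pow_ne_one (by omega) hQ1 hQ2 rfl
    obtain ⟨s, rfl⟩ := QuotientGroup.mk'_surjective _ s
    rw [← map_pow, Ne, QuotientGroup.mk'_apply, QuotientGroup.eq_one_iff] at hs
    obtain ⟨x, -, hx⟩ := exists_good hn hG hc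
    have hlayer : ∀ d j, p ≤ j + d → 2 ≤ j → j ≤ p → ∀ z ∈ U, z ∈ fil S j → z ∉ fil S (j + 1) →
        ∃ w ∈ U, w ∈ fil S p ∧ w ∉ fil S (p + 1) := by
      intro d
      induction d with
      | zero =>
        intro j h1 _ h3 z hzU hz hz'
        obtain rfl : j = p := by omega
        exact ⟨z, hzU, hz, hz'⟩
      | succ d ihd =>
        intro j h1 h2 h3 z hzU hz hz'
        rcases eq_or_lt_of_le h3 with rfl | h3'
        · exact ⟨z, hzU, hz, hz'⟩
        refine ihd (j + 1) (by omega) (by omega) h3' ⁅z, x⁆ ?_ (fil_commutator_mem (i := j) (j := 1) hz (mem_top x))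
          (CfsgLib.MaxClassRank.comm_layer hn hG hc hx h2 (by omega) hz hz')
        rw [commutatorElement_def, mul_assoc, mul_assoc, ← mul_assoc x]
        exact mul_mem hzU (‹U.Normal›.conj_mem _ (inv_mem hzU) x)
    obtain ⟨j, hj2, hjp, hsj, hsj'⟩ : ∃ j, 2 ≤ j ∧ j ≤ p ∧ s ^ p ∈ fil S j ∧ s ^ p ∉ fil S (j + 1) := by
      by_contra hno
      push Not at hno
      have hall : ∀ j, 2 ≤ j → j ≤ p + 1 → s ^ p ∈ fil S j := by
        intro j hj
        induction j, hj using Nat.le_induction with
        | base =>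
          intro _
          show _ ∈ (⊤ : Subgroup S).lowerCentralSeries 1
          rw [Subgroup.top_lowerCentralSeries_one]
          exact CfsgLib.MaximalClass.pow_mem_commutator hn hG hc s
        | succ j hj ih => exact fun h' => hno j hj (by omega) (ih (by omega))
      exact hs (hall (p + 1) (by omega) le_rfl)
    obtain ⟨w, hwU, hw, hw'⟩ := hlayer p j (by omega) hj2 hjp _
      (subset_closure ⟨s, hHtop ▸ mem_top s, rfl⟩) hsj hsj'
    classical
    let I : Finset ℕ := (Finset.range n).filter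
      fun j => 2 ≤ j ∧ j < n ∧ ∃ h ∈ U, h ∈ fil S j ∧ h ∉ fil S (j + 1)
    have hI : ∀ j, j ∈ I ↔ 2 ≤ j ∧ j < n ∧ ∃ h ∈ U, h ∈ fil S j ∧ h ∉ fil S (j + 1) := fun j => by
      simp only [I, Finset.mem_filter, Finset.mem_range, and_iff_right_iff_imp]
      exact fun h => h.2.1
    have hIco : Finset.Ico p n ⊆ I := by
      intro i hi
      rw [Finset.mem_Ico] at hi
      rcases eq_or_lt_of_le hi.1 with rfl | hi'
      · exact (hI _).mpr ⟨hp2, hi.2, w, hwU, hw, hw'⟩
      · obtain ⟨z, hz, hz'⟩ := exists_gen hn hG hc (j := i - (p - 1)) (by omega) (by omega)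
        obtain ⟨ha, hb⟩ := pow_shift hn hG hc (show 2 ≤ i - (p - 1) by omega) hz
        rw [show i - (p - 1) + (p - 1) = i by omega] at ha
        have hb' := hb (by omega) hz'
        rw [show i - (p - 1) + p = i + 1 by omega] at hb'
        exact (hI i).mpr ⟨by omega, hi.2, z ^ p, subset_closure ⟨z, hHtop ▸ mem_top z, rfl⟩, ha, hb'⟩
    have h1 := card_layers hn hG hc U I hI
    have h2 : n - p ≤ I.card := by simpa using Finset.card_le_card hIco
    calc p ^ n = p ^ p * p ^ (n - p) := by rw [← pow_add, Nat.add_sub_cancel' h.le]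
      _ ≤ p ^ p * p ^ I.card := Nat.mul_le_mul_left _ (Nat.pow_le_pow_right hp.out.pos h2)
      _ ≤ p ^ p * Nat.card U := by rw [← h1]; exact Nat.mul_le_mul_left _ (card_le_of_le inf_le_left)
  · have h1 : Nat.card H ≤ p * Nat.card ↥(H ⊓ fil S 2) := by
      have hidx : ((H ⊓ fil S 2).subgroupOf H).index ≤ p := by
        rw [inf_comm, inf_subgroupOf_right, ← Subgroup.relIndex, ← Subgroup.relIndex_sup_right]
        have hcard : Nat.card ↥(H ⊔ fil S 2) * p ≤ p ^ n := by
          have h := card_grow hG (lt_top_iff_ne_top.mpr hH)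
          rwa [card_top, hG] at h
        have h2 := ((fil S 2).subgroupOf (H ⊔ fil S 2)).card_mul_index
        rw [Nat.card_congr (subgroupOfEquivOfLe le_sup_right).toEquiv,
          CfsgLib.MaxClassRank.card_fil hn hG hc le_rfl (by omega)] at h2
        rw [← h2, show p ^ n = p ^ (n - 2) * (p * p) by rw [← pow_two, ← pow_add, Nat.sub_add_cancel (by omega)],
          mul_assoc] at hcard
        exact Nat.le_of_mul_le_mul_right (Nat.le_of_mul_le_mul_left hcard (pow_pos hp.out.pos _)) hp.out.pos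
      have h := ((H ⊓ fil S 2).subgroupOf H).card_mul_index
      rw [Nat.card_congr (subgroupOfEquivOfLe inf_le_left).toEquiv] at h
      rw [← h, mul_comm p]
      exact Nat.mul_le_mul_left _ hidx
    calc Nat.card H ≤ p * Nat.card ↥(H ⊓ fil S 2) := h1
      _ ≤ p * (p ^ (p - 1) * Nat.card ↥(U ⊓ fil S 2)) := Nat.mul_le_mul_left _ (card_inf_le_powers hn hG hc H)
      _ ≤ p * (p ^ (p - 1) * Nat.card U) :=
        Nat.mul_le_mul_left _ (Nat.mul_le_mul_left _ (card_le_of_le inf_le_left))
      _ = p ^ p * Nat.card U := by rw [← mul_assoc, ← pow_succ', Nat.sub_add_cancel hp.out.pos]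

/-- A group of maximal class of order at least `p ^ (2 k + 1)` has an elementary abelian section of
order `p ^ (k + 1)` when `k + 2 ≤ p`. -/
theorem order_le_of_sectional {k : ℕ} (hk : 1 ≤ k) (hpk : k + 2 ≤ p) (hsr : Cfsg.SectionalPRankLE p k S) :
    n ≤ 2 * k := by
  by_contra hnk
  have key : ∀ (H N : Subgroup S) [N.Normal], N ≤ H → (∀ a ∈ H, a ^ p ∈ N) → ⁅H, H⁆ ≤ N →
      Nat.card H = p ^ (k + 1) * Nat.card N → False := by
    intro H N _ hNH hexp hab hcard
    have h := hsr H (N.subgroupOf H) ⊤ ⟨⟨fun a b => Subtype.ext ?_⟩⟩ ?_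
    · rw [card_top] at h
      have h2 := Subgroup.card_eq_card_quotient_mul_card_subgroup (N.subgroupOf H)
      rw [Nat.card_congr (subgroupOfEquivOfLe hNH).toEquiv, hcard] at h2
      rw [← Nat.eq_of_mul_eq_mul_right Nat.card_pos h2] at h
      exact absurd ((Nat.pow_le_pow_iff_right hp.out.one_lt).mp h) (by omega)
    · obtain ⟨a, -⟩ := a
      obtain ⟨b, -⟩ := b
      obtain ⟨a, rfl⟩ := QuotientGroup.mk'_surjective (N.subgroupOf H) a
      obtain ⟨b, rfl⟩ := QuotientGroup.mk'_surjective (N.subgroupOf H) b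
      exact CfsgLib.MaxClassRank.mk_comm_iff.mpr (hab (commutator_mem_commutator a.2 b.2))
    · intro q _
      obtain ⟨a, rfl⟩ := QuotientGroup.mk'_surjective (N.subgroupOf H) q
      rw [← map_pow]
      exact (QuotientGroup.eq_one_iff _).mpr (hexp a a.2)
  rcases (show k = 1 ∨ 2 ≤ k by omega) with rfl | hk2
  · refine key ⊤ (fil S 2) le_top (fun a _ => ?_) ?_ ?_
    · show _ ∈ (⊤ : Subgroup S).lowerCentralSeries 1
      rw [Subgroup.top_lowerCentralSeries_one]
      exact CfsgLib.MaximalClass.pow_mem_commutator hn hG hc a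
    · exact le_of_eq rfl
    · rw [card_top, hG, CfsgLib.MaxClassRank.card_fil hn hG hc le_rfl (by omega), ← pow_add,
        show 1 + 1 + (n - 2) = n by omega]
  · refine key (fil S k) (fil S (2 * k + 1)) (fil_antitone (by omega))
      (fun a ha => fil_antitone (by omega) (pow_shift hn hG hc hk2 ha).1) (comm_self_le hn hG hc hk2) ?_
    rw [CfsgLib.MaxClassRank.card_fil hn hG hc hk2 (by omega), CfsgLib.MaxClassRank.card_fil hn hG hc (by omega) (by omega),
      ← pow_add, show k + 1 + (n - (2 * k + 1)) = n - k by omega]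

end CfsgLib.MaxClassGood
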