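import Cfsg.Agent.Lib.MaxClassRank
import Cfsg.Agent.S4143

/-! Every `p`-group of maximal class has an element with centralizer of order `p ^ 2`. -/

set_option autoImplicit false

namespace CfsgLib.MaxClassGood

open scoped commutatorElement
open Subgroup
open CfsgLib.PolySeq (fil fil_antitone fil_commutator_mem)

universe u

variable {S : Type u} [Group S] [Finite S] {p : ℕ} [hp : Fact p.Prime] {n : ℕ}

omit [Finite S] in
/-- Images of the lower central series. -/
theorem fil_map (N : Subgroup S) [N.Normal] (j : ℕ) : (fil S j).map (QuotientGroup.mk' N) = fil (S ⧸ N) j := by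
  unfold CfsgLib.PolySeq.fil
  rw [Subgroup.map_lowerCentralSeries, Subgroup.map_top_of_surjective _ (QuotientGroup.mk'_surjective N)]

omit [Finite S] in
/-- Membership in the series of a quotient by a term of the series. -/
theorem mem_fil_quot {m j : ℕ} (hjm : j ≤ m) (g : S) :
    (QuotientGroup.mk' (fil S m) g) ∈ fil (S ⧸ fil S m) j ↔ g ∈ fil S j := by
  rw [← fil_map]
  constructor
  · rintro ⟨w, hw, hwg⟩
    have h : w⁻¹ * g ∈ fil S m := QuotientGroup.eq.mp hwg
    simpa using mul_mem hw (fil_antitone hjm h)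
  · exact fun h => mem_map_of_mem _ h

/-- The quotient by a term of the series has maximal class. -/
theorem quot_data (hn : 3 ≤ n) (hG : Nat.card S = p ^ n) (hc : Group.nilpotencyClass S = n - 1) {m : ℕ}
    (h3 : 3 ≤ m) (hm : m ≤ n) :
    Nat.card (S ⧸ fil S m) = p ^ m ∧ Group.nilpotencyClass (S ⧸ fil S m) = m - 1 := by
  have hidx : (fil S m).index = p ^ m := by
    have h := CfsgLib.MaximalClass.index_lcs hn hG hc (m - 1) (by omega) (by omega)
    rwa [show m - 1 + 1 = m by omega] at h
  refine ⟨hidx, ?_⟩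
  have : Group.IsNilpotent (S ⧸ fil S m) := ((IsPGroup.of_card hG).to_quotient _).isNilpotent
  have h1 : Group.nilpotencyClass (S ⧸ fil S m) ≤ m - 1 := by
    rw [← Subgroup.lowerCentralSeries_eq_bot_iff_nilpotencyClass_le]
    show fil (S ⧸ fil S m) m = ⊥
    rw [← fil_map, Subgroup.map_eq_bot_iff, QuotientGroup.ker_mk']
  refine le_antisymm h1 ?_
  by_contra h
  have h2 : fil (S ⧸ fil S m) (m - 1) = ⊥ := by
    show (⊤ : Subgroup (S ⧸ fil S m)).lowerCentralSeries (m - 1 - 1) = ⊥
    rw [Subgroup.lowerCentralSeries_eq_bot_iff_nilpotencyClass_le]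
    omega
  rw [← fil_map, Subgroup.map_eq_bot_iff, QuotientGroup.ker_mk'] at h2
  have h3' := Subgroup.card_le_of_le h2
  rw [CfsgLib.MaxClassRank.card_fil hn hG hc (by omega) (by omega), CfsgLib.MaxClassRank.card_fil hn hG hc (by omega) hm,
    Nat.pow_le_pow_iff_right hp.out.one_lt] at h3'
  omega

/-- The centralizer of two consecutive layers. -/
def twoStep (S : Type*) [Group S] (k : ℕ) : Subgroup S :=
  (centralizer (((fil S k).map (QuotientGroup.mk' (fil S (k + 2)))) : Set (S ⧸ fil S (k + 2)))).comap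
    (QuotientGroup.mk' (fil S (k + 2)))

omit [Finite S] in
theorem mem_twoStep {k : ℕ} {g : S} : g ∈ twoStep S k ↔ ∀ w ∈ fil S k, ⁅w, g⁆ ∈ fil S (k + 2) := by
  rw [twoStep, mem_comap, mem_centralizer_iff]
  constructor
  · exact fun h w hw => CfsgLib.MaxClassRank.mk_comm_iff.mp (h _ ⟨w, hw, rfl⟩)
  · rintro h _ ⟨w, hw, rfl⟩
    exact CfsgLib.MaxClassRank.mk_comm_iff.mpr (h w hw)

omit [Finite S] in
theorem twoStep_quot {m k : ℕ} (hkm : k + 2 ≤ m) :
    twoStep S k = (twoStep (S ⧸ fil S m) k).comap (QuotientGroup.mk' (fil S m)) := by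
  ext g
  rw [mem_comap, mem_twoStep, mem_twoStep]
  constructor
  · intro h w hw
    rw [← fil_map] at hw
    obtain ⟨w, hw', rfl⟩ := hw
    rw [← map_commutatorElement, mem_fil_quot hkm]
    exact h w hw'
  · intro h w hw
    have h1 := h _ ((mem_fil_quot (show k ≤ m by omega) w).mpr hw)
    rwa [← map_commutatorElement, mem_fil_quot hkm] at h1

variable (hn : 3 ≤ n) (hG : Nat.card S = p ^ n) (hc : Group.nilpotencyClass S = n - 1)

include hn hG hc

omit [Finite S] hn hG hc hp in
theorem fil_le_twoStep (k : ℕ) : fil S 2 ≤ twoStep S k := fun _ hg =>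
  mem_twoStep.mpr fun _ hw => fil_commutator_mem (j := 2) hw hg

theorem exists_gen {j : ℕ} (hjn : j < n) (h2 : 2 ≤ j) : ∃ z ∈ fil S j, z ∉ fil S (j + 1) := by
  by_contra h
  push Not at h
  have h1 := Subgroup.card_le_of_le (show fil S j ≤ fil S (j + 1) from h)
  rw [CfsgLib.MaxClassRank.card_fil hn hG hc h2 hjn.le, CfsgLib.MaxClassRank.card_fil hn hG hc (by omega) hjn,
    Nat.pow_le_pow_iff_right hp.out.one_lt] at h1
  omega

theorem twoStep_ne_top {k : ℕ} (h2 : 2 ≤ k) (hk : k + 2 ≤ n) : twoStep S k ≠ ⊤ := by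
  intro h
  obtain ⟨z, hz, hz'⟩ := exists_gen hn hG hc (j := k + 1) (by omega) (by omega)
  rw [CfsgLib.MaxClassRank.fil_succ (show 1 ≤ k by omega)] at hz
  refine hz' ?_
  have hle : ⁅fil S k, (⊤ : Subgroup S)⁆ ≤ fil S (k + 2) := by
    rw [commutator_le]
    intro w hw g _
    exact mem_twoStep.mp (h ▸ mem_top g) w hw
  exact hle hz

theorem twoStep_index {k : ℕ} (h2 : 2 ≤ k) (hk : k + 2 ≤ n) : (twoStep S k).index = p := by
  obtain ⟨z, hz, hz'⟩ := exists_gen hn hG hc (j := k) (by omega) h2
  set q := QuotientGroup.mk' (fil S (k + 2)) with hq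
  let ψ : S →* S ⧸ fil S (k + 2) :=
    { toFun := fun g => q ⁅z, g⁆
      map_one' := by rw [commutatorElement_one_right, map_one]
      map_mul' := fun g h => by
        have e : ⁅z, g * h⁆ = ⁅z, g⁆ * ⁅g, ⁅z, h⁆⁆ * ⁅z, h⁆ := by simp only [commutatorElement_def]; group
        have h1 : q ⁅g, ⁅z, h⁆⁆ = 1 := (QuotientGroup.eq_one_iff _).mpr
          (fil_antitone (by omega) (fil_commutator_mem (i := 1) (j := k + 1) (mem_top g)
            (fil_commutator_mem (i := k) (j := 1) hz (mem_top h))))
        rw [e, map_mul, map_mul, h1, mul_one] }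
  have hker : ψ.ker = twoStep S k := by
    ext g
    rw [MonoidHom.mem_ker, mem_twoStep]
    constructor
    · intro hg w hw
      have hle : fil S k ≤ (centralizer ({q g} : Set (S ⧸ fil S (k + 2)))).comap q := by
        rw [← CfsgLib.MaxClassRank.fil_layer hn hG hc h2 hz hz', sup_le_iff, zpowers_le, mem_comap,
          mem_centralizer_singleton_iff]
        refine ⟨CfsgLib.MaxClassRank.mk_comm_iff.mpr ((QuotientGroup.eq_one_iff _).mp hg), fun v hv => ?_⟩
        rw [mem_comap, mem_centralizer_singleton_iff]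
        exact CfsgLib.MaxClassRank.mk_comm_iff.mpr (fil_commutator_mem (i := k + 1) (j := 1) hv (mem_top g))
      exact CfsgLib.MaxClassRank.mk_comm_iff.mp (mem_centralizer_singleton_iff.mp (hle hw))
    · exact fun h => (QuotientGroup.eq_one_iff _).mpr (h z hz)
  have hrange : ψ.range ≤ (fil S (k + 1)).map q := by
    rintro _ ⟨g, rfl⟩
    exact ⟨_, fil_commutator_mem (i := k) (j := 1) hz (mem_top g), rfl⟩
  have hcard : Nat.card ((fil S (k + 1)).map q) = p := by
    have h := Cfsg.Agent.S4143.card_map_mk (fil S (k + 2)) (fil S (k + 1)) (fil_antitone (by omega))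
    rw [CfsgLib.MaxClassRank.card_fil hn hG hc (by omega) (by omega),
      CfsgLib.MaxClassRank.card_fil hn hG hc (by omega) hk, show n - (k + 1) = n - (k + 2) + 1 by omega,
      pow_succ] at h
    exact (Nat.eq_of_mul_eq_mul_left (pow_pos hp.out.pos _) h).symm
  have hidx : ψ.ker.index ≤ p := by
    rw [Subgroup.index_ker]
    exact (Subgroup.card_le_of_le hrange).trans hcard.le
  rw [hker] at hidx
  obtain ⟨j, -, hj⟩ := (Nat.dvd_prime_pow hp.out).mp (hG ▸ (twoStep S k).index_dvd_card)
  have hj0 : j ≠ 0 := by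
    rintro rfl
    rw [pow_zero, index_eq_one] at hj
    exact twoStep_ne_top hn hG hc h2 hk hj
  rw [hj] at hidx ⊢
  exact le_antisymm hidx (Nat.le_self_pow hj0 p)

/-- An element avoiding the two-step centralizers has a small centralizer. -/
theorem good_of_outside {x : S} (hx2 : x ∉ fil S 2) (hx : ∀ k, 2 ≤ k → k + 2 ≤ n → x ∉ twoStep S k) :
    Nat.card (centralizer ({x} : Set S)) = p ^ 2 := by
  have hS : IsPGroup p S := IsPGroup.of_card hG
  set C := centralizer ({x} : Set S) with hC
  have hxC : x ∈ C := mem_centralizer_singleton_iff.mpr rfl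
  have hfil2 : fil S 2 = commutator S := Subgroup.top_lowerCentralSeries_one
  have hCle : C ⊓ fil S 2 ≤ fil S (n - 1) := by
    intro g hg
    by_contra hg'
    obtain ⟨j, hj2, hjn, hgj, hgj'⟩ : ∃ j, 2 ≤ j ∧ j + 2 ≤ n ∧ g ∈ fil S j ∧ g ∉ fil S (j + 1) := by
      classical
      have hex : ∃ j, g ∉ fil S (j + 2) := ⟨n - 3, by rwa [show n - 3 + 2 = n - 1 by omega]⟩
      obtain ⟨j, hj⟩ : ∃ j, Nat.find hex = j + 1 := ⟨Nat.find hex - 1, by
        have : Nat.find hex ≠ 0 := fun h => by
          have := Nat.find_spec hex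
          rw [h] at this
          exact this hg.2
        omega⟩
      refine ⟨j + 2, by omega, ?_, not_not.mp (Nat.find_min hex (by omega)), ?_⟩
      · have := Nat.find_le (h := hex) (show g ∉ fil S (n - 3 + 2) by rwa [show n - 3 + 2 = n - 1 by omega])
        omega
      · have := Nat.find_spec hex
        rwa [hj] at this
    refine hx j hj2 hjn (mem_twoStep.mpr fun w hw => ?_)
    have hle : fil S j ≤ (centralizer ({QuotientGroup.mk' (fil S (j + 2)) x} : Set _)).comap
        (QuotientGroup.mk' (fil S (j + 2))) := by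
      rw [← CfsgLib.MaxClassRank.fil_layer hn hG hc hj2 hgj hgj', sup_le_iff, zpowers_le, mem_comap,
        mem_centralizer_singleton_iff]
      refine ⟨?_, fun v hv => ?_⟩
      · rw [← map_mul, ← map_mul, mem_centralizer_singleton_iff.mp hg.1]
      · rw [mem_comap, mem_centralizer_singleton_iff]
        exact CfsgLib.MaxClassRank.mk_comm_iff.mpr (fil_commutator_mem (i := j + 1) (j := 1) hv (mem_top x))
    exact CfsgLib.MaxClassRank.mk_comm_iff.mp (mem_centralizer_singleton_iff.mp (hle hw))
  have h1 : Nat.card ↥(C ⊓ fil S 2) ≤ p := by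
    refine (Subgroup.card_le_of_le hCle).trans ?_
    rw [CfsgLib.MaxClassRank.card_fil hn hG hc (by omega) (by omega), show n - (n - 1) = 1 by omega, pow_one]
  have hne : C ⊔ fil S 2 ≠ ⊤ := by
    intro h
    rw [hfil2] at h
    have hCtop : C = ⊤ := CfsgLib.Regular.eq_top_of_sup_commutator hS h
    have hxZ : x ∈ center S := mem_center_iff.mpr fun g =>
      mem_centralizer_singleton_iff.mp (hCtop ▸ mem_top g : g ∈ C)
    obtain ⟨a, b, hab⟩ := CfsgLib.MaximalClass.exists_noncomm hn hG hc
    have hne : center S ⊔ commutator S ≠ ⊤ := fun h' => by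
      have h'' := CfsgLib.Regular.eq_top_of_sup_commutator hS h'
      exact hab ((mem_center_iff.mp (h'' ▸ mem_top b : b ∈ center S)) a)
    have hlt : commutator S < center S ⊔ commutator S := lt_of_le_of_ne le_sup_right fun e =>
      hx2 (hfil2.symm ▸ e.ge (mem_sup_left hxZ))
    obtain ⟨y, hy⟩ : ∃ y, y ∉ center S ⊔ commutator S := not_forall.mp fun h' => hne (eq_top_iff.mpr fun g _ => h' g)
    have hlt2 : center S ⊔ commutator S < zpowers y ⊔ (center S ⊔ commutator S) :=
      lt_of_le_of_ne le_sup_right fun e => hy (e.ge (mem_sup_left (mem_zpowers y)))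
    have hgrow : ∀ A B : Subgroup S, A < B → Nat.card A * p ≤ Nat.card B := by
      intro A B hAB
      obtain ⟨a, -, ha⟩ := (Nat.dvd_prime_pow hp.out).mp (hG ▸ card_subgroup_dvd_card A)
      obtain ⟨b, -, hb⟩ := (Nat.dvd_prime_pow hp.out).mp (hG ▸ card_subgroup_dvd_card B)
      have h1 : Nat.card A < Nat.card B :=
        lt_of_le_of_ne (card_le_of_le hAB.le) fun e => hAB.ne (eq_of_le_of_card_ge hAB.le e.ge)
      rw [ha, hb, Nat.pow_lt_pow_iff_right hp.out.one_lt] at h1
      rw [ha, hb, ← pow_succ]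
      exact Nat.pow_le_pow_right hp.out.pos h1
    have htop : zpowers y ⊔ center S = ⊤ := by
      refine CfsgLib.Regular.eq_top_of_sup_commutator hS ?_
      rw [sup_assoc]
      refine eq_top_of_le_card _ ?_
      have h2 := (Nat.mul_le_mul_right p (hgrow _ _ hlt)).trans (hgrow _ _ hlt2)
      rw [← hfil2, CfsgLib.MaxClassRank.card_fil hn hG hc le_rfl (by omega), mul_assoc, ← pow_two, ← pow_add,
        Nat.sub_add_cancel (by omega), hfil2] at h2
      rw [hG]
      exact h2
    refine hab ?_
    obtain ⟨u, hu, v, hv, rfl⟩ := mem_sup_of_normal_right.mp (htop ▸ mem_top a : a ∈ zpowers y ⊔ center S)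
    obtain ⟨u', hu', v', hv', rfl⟩ := mem_sup_of_normal_right.mp (htop ▸ mem_top b : b ∈ zpowers y ⊔ center S)
    obtain ⟨i, rfl⟩ := mem_zpowers_iff.mp hu
    obtain ⟨i', rfl⟩ := mem_zpowers_iff.mp hu'
    have hv1 := mem_center_iff.mp hv
    have hv1' := mem_center_iff.mp hv'
    calc y ^ i * v * (y ^ i' * v') = y ^ i * y ^ i' * (v * v') := by rw [mul_assoc, ← mul_assoc v, ← hv1, mul_assoc, mul_assoc]
      _ = y ^ i' * y ^ i * (v' * v) := by rw [(Commute.zpow_zpow_self y i i').eq, hv1' v]
      _ = y ^ i' * v' * (y ^ i * v) := by rw [mul_assoc (y ^ i'), ← mul_assoc (y ^ i), hv1' (y ^ i), mul_assoc, mul_assoc]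
  have h2 : Nat.card (C.map (QuotientGroup.mk' (fil S 2))) ≤ p := by
    have h := Cfsg.Agent.S4143.card_map_mk (fil S 2) (C ⊔ fil S 2) le_sup_right
    have hm : (C ⊔ fil S 2).map (QuotientGroup.mk' (fil S 2)) = C.map (QuotientGroup.mk' (fil S 2)) := by
      rw [Subgroup.map_sup, (Subgroup.map_eq_bot_iff _).mpr (QuotientGroup.ker_mk' _).ge, sup_bot_eq]
    rw [hm, CfsgLib.MaxClassRank.card_fil hn hG hc le_rfl (by omega)] at h
    obtain ⟨j, hj, hj'⟩ := (Nat.dvd_prime_pow hp.out).mp (hG ▸ card_subgroup_dvd_card (C ⊔ fil S 2))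
    have hjn : j ≠ n := by
      rintro rfl
      exact hne (eq_top_of_le_card _ (by rw [hG, hj']))
    have hle : p ^ j ≤ p ^ (n - 2) * p := by
      rw [← pow_succ]; exact Nat.pow_le_pow_right hp.out.pos (by omega)
    rw [← hj', h] at hle
    exact Nat.le_of_mul_le_mul_left hle (pow_pos hp.out.pos _)
  have h3 : Nat.card C = Nat.card ↥(C ⊓ fil S 2) * Nat.card (C.map (QuotientGroup.mk' (fil S 2))) := by
    let f := (QuotientGroup.mk' (fil S 2)).subgroupMap C
    rw [← f.ker.card_mul_index, Subgroup.index_ker, MonoidHom.range_eq_top.mpr (MonoidHom.subgroupMap_surjective _ _),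
      Subgroup.card_top]
    congr 1
    have : f.ker = (fil S 2).subgroupOf C := by
      ext y
      rw [MonoidHom.mem_ker, Subgroup.mem_subgroupOf, ← QuotientGroup.eq_one_iff (N := fil S 2), Subtype.ext_iff]
      rfl
    rw [this, ← inf_subgroupOf_left]
    exact Nat.card_congr (Subgroup.subgroupOfEquivOfLe inf_le_left).toEquiv
  obtain ⟨j, -, hj⟩ := (Nat.dvd_prime_pow hp.out).mp (hG ▸ card_subgroup_dvd_card C)
  have h4 : p < Nat.card C := by
    obtain ⟨z, hz, hz'⟩ := exists_gen hn hG hc (j := n - 1) (by omega) (by omega)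
    have hle : fil S (n - 1) ≤ C := fun w hw => mem_centralizer_singleton_iff.mpr (by
      have h := fil_commutator_mem hw (show x ∈ fil S 1 from mem_top _)
      rw [CfsgLib.MaxClassRank.fil_eq_bot hn hG hc (by omega), mem_bot] at h
      exact commutatorElement_eq_one_iff_mul_comm.mp h)
    have hlt : fil S (n - 1) < C := lt_of_le_of_ne hle fun e => hx2 (fil_antitone (by omega) (e.ge hxC))
    have h5 : Nat.card (fil S (n - 1)) < Nat.card C :=
      lt_of_le_of_ne (card_le_of_le hle) fun e => hlt.ne (eq_of_le_of_card_ge hle e.ge)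
    rwa [CfsgLib.MaxClassRank.card_fil hn hG hc (by omega) (by omega), show n - (n - 1) = 1 by omega, pow_one] at h5
  have h5 : Nat.card C ≤ p * p := h3 ▸ Nat.mul_le_mul h1 h2
  rw [hj] at h4 h5 ⊢
  rw [← pow_two, Nat.pow_le_pow_iff_right hp.out.one_lt] at h5
  have h4' : 1 < j := (Nat.pow_lt_pow_iff_right hp.out.one_lt).mp (by rwa [pow_one])
  rw [show j = 2 by omega]

/-- Commutators inside a term of the series. -/
theorem comm_self_le {i : ℕ} (hi : 2 ≤ i) : ⁅fil S i, fil S i⁆ ≤ fil S (2 * i + 1) := by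
  rcases le_or_gt n i with h | h
  · rw [CfsgLib.MaxClassRank.fil_eq_bot hn hG hc h, commutator_bot_left]
    exact bot_le
  obtain ⟨z, hz, hz'⟩ := exists_gen hn hG hc h hi
  set q := QuotientGroup.mk' (fil S (2 * i + 1)) with hq
  have hsmall : ∀ a ∈ fil S i, ∀ v ∈ fil S (i + 1), q v * q a = q a * q v := fun a ha v hv =>
    CfsgLib.MaxClassRank.mk_comm_iff.mpr (fil_antitone (by omega) (fil_commutator_mem hv ha))
  have hzc : ∀ a ∈ fil S i, q a * q z = q z * q a := by
    intro a ha
    have hle : fil S i ≤ (centralizer ({q z} : Set _)).comap q := by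
      rw [← CfsgLib.MaxClassRank.fil_layer hn hG hc hi hz hz', sup_le_iff, zpowers_le, mem_comap,
        mem_centralizer_singleton_iff]
      exact ⟨rfl, fun v hv => mem_centralizer_singleton_iff.mpr (hsmall z hz v hv)⟩
    exact mem_centralizer_singleton_iff.mp (hle ha)
  rw [commutator_le]
  intro a ha b hb
  have hle : fil S i ≤ (centralizer ({q b} : Set _)).comap q := by
    rw [← CfsgLib.MaxClassRank.fil_layer hn hG hc hi hz hz', sup_le_iff, zpowers_le, mem_comap,
      mem_centralizer_singleton_iff]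
    exact ⟨(hzc b hb).symm, fun v hv => mem_centralizer_singleton_iff.mpr (hsmall b hb v hv)⟩
  exact CfsgLib.MaxClassRank.mk_comm_iff.mp (mem_centralizer_singleton_iff.mp (hle ha))

/-- The power map on a term of the series is multiplicative under suitable bounds. -/
theorem mul_pow_fil {i : ℕ} (hi : 2 ≤ i) (hni : n ≤ p * i + 1) (hexp : ∀ c ∈ fil S (2 * i), c ^ p = 1)
    {a b : S} (ha : a ∈ fil S i) (hb : b ∈ fil S i) : (a * b) ^ p = a ^ p * b ^ p := by
  have hlcs : ∀ m, 1 ≤ m → ((⊤ : Subgroup (fil S i)).lowerCentralSeries m).map (fil S i).subtype ≤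
      fil S (i * (m + 1) + 1) := by
    intro m hm
    induction m, hm using Nat.le_induction with
    | base =>
      rw [Subgroup.lowerCentralSeries_succ, Subgroup.lowerCentralSeries_zero, map_commutator, ← MonoidHom.range_eq_map,
        range_subtype, show i * (1 + 1) + 1 = 2 * i + 1 by ring]
      exact comm_self_le hn hG hc hi
    | succ m hm ih =>
      rw [Subgroup.lowerCentralSeries_succ, map_commutator, ← MonoidHom.range_eq_map, range_subtype]
      refine (Subgroup.commutator_mono ih le_rfl).trans ?_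
      rw [commutator_le]
      intro u hu v hv
      rw [show i * (m + 1 + 1) + 1 = i * (m + 1) + 1 + i by ring]
      exact fil_commutator_mem hu hv
  have hbot : (⊤ : Subgroup (fil S i)).lowerCentralSeries (p - 1) = ⊥ := by
    rw [← Subgroup.map_eq_bot_iff_of_injective _ (fil S i).subtype_injective, eq_bot_iff]
    refine (hlcs (p - 1) (by have := hp.out.two_le; omega)).trans ?_
    rw [CfsgLib.MaxClassRank.fil_eq_bot hn hG hc]
    rw [Nat.sub_add_cancel hp.out.pos, mul_comm]
    exact hni
  obtain ⟨c, hc1, hc2⟩ := CfsgLib.PolySeq.mul_pow_prime hbot (⟨a, ha⟩ : fil S i) ⟨b, hb⟩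
  have hc0 : c = 1 := by
    have hle : Subgroup.closure {y : fil S i | ∃ w ∈ commutator (fil S i), y = w ^ p} ≤ ⊥ := by
      rw [closure_le]
      rintro _ ⟨w, hw, rfl⟩
      rw [SetLike.mem_coe, mem_bot]
      refine Subtype.ext (hexp _ ?_)
      refine fil_antitone (show 2 * i ≤ i * (1 + 1) + 1 by omega) (hlcs 1 le_rfl ⟨w, ?_, rfl⟩)
      rwa [Subgroup.top_lowerCentralSeries_one]
    exact mem_bot.mp (hle hc1)
  rw [hc0, mul_one] at hc2
  exact congrArg Subtype.val hc2

omit hn hG hc in
/-- The two-step centralizers repeat with period `p - 1`, and there is an element with small centralizer. -/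
theorem periodic_and_good : ∀ (n : ℕ) {S : Type u} [Group S] [Finite S], 3 ≤ n → Nat.card S = p ^ n →
    Group.nilpotencyClass S = n - 1 →
    (∀ k, p + 1 ≤ k → k + 2 ≤ n → twoStep S k = twoStep S (k - (p - 1))) ∧
      ∃ x : S, x ∉ fil S 2 ∧ Nat.card (centralizer ({x} : Set S)) = p ^ 2 := by
  intro n
  induction n using Nat.strong_induction_on with
  | _ n ih =>
    intro S _ _ hn hG hc
    have hp2 := hp.out.two_le
    have hper : ∀ k, p + 1 ≤ k → k + 2 ≤ n → twoStep S k = twoStep S (k - (p - 1)) := by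
      intro k hk hkn
      rcases lt_or_eq_of_le hkn with hlt | heq
      · obtain ⟨hQ1, hQ2⟩ := quot_data hn hG hc (m := k + 2) (by omega) hkn
        have h := (ih (k + 2) hlt (S := S ⧸ fil S (k + 2)) (by omega) hQ1 hQ2).1 k hk le_rfl
        rw [twoStep_quot (m := k + 2) le_rfl, twoStep_quot (k := k - (p - 1)) (m := k + 2) (by omega), h]
      obtain ⟨k', rfl⟩ : ∃ k', k = k' + (p - 1) := ⟨k - (p - 1), by omega⟩
      rw [Nat.add_sub_cancel]
      have hk2 : 2 ≤ k' := by omega
      obtain ⟨hQ1, hQ2⟩ := quot_data hn hG hc (m := n - 1) (by omega) (by omega)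
      obtain ⟨xq, -, hxq⟩ := (ih (n - 1) (by omega) (S := S ⧸ fil S (n - 1)) (by omega) hQ1 hQ2).2
      have F1 : ∀ j, 2 ≤ j → n - 1 ≤ j + (p - 1) → ∀ w ∈ fil S j, w ^ p ∈ fil S (n - 1) := by
        intro j hj hjn w hw
        rcases lt_or_ge (n - 1) j with h | h
        · exact pow_mem (fil_antitone h.le hw) p
        have h1 := (CfsgLib.MaxClassRank.pow_layer (n := n - 1) (by omega) hQ1 hQ2 hxq (n - 1) j (by omega) hj _
          ((mem_fil_quot h w).mpr hw)).1
        rw [CfsgLib.MaxClassRank.fil_eq_bot (n := n - 1) (by omega) hQ1 hQ2 hjn, mem_bot, ← map_pow] at h1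
        exact (QuotientGroup.eq_one_iff _).mp h1
      have hZ : ∀ w ∈ fil S (n - 1), ∀ g : S, w * g = g * w := fun w hw g => by
        have h := fil_commutator_mem hw (show g ∈ fil S 1 from mem_top _)
        rw [CfsgLib.MaxClassRank.fil_eq_bot hn hG hc (by omega), mem_bot] at h
        exact commutatorElement_eq_one_iff_mul_comm.mp h
      have hpm : ∀ j, 2 ≤ j → j + p ≤ p * j := fun j hj => by nlinarith
      have hnk : n = k' + p + 1 := by omega
      have hA : ∀ d j, n ≤ j + d → k' + 2 ≤ j → ∀ w ∈ fil S j, w ^ p = 1 := by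
        intro d
        induction d with
        | zero =>
          intro j hj _ w hw
          rw [CfsgLib.MaxClassRank.fil_eq_bot hn hG hc (by omega), mem_bot] at hw
          rw [hw, one_pow]
        | succ d ihd =>
          intro j hj hjk w hw
          have hmul : ∀ a ∈ fil S j, ∀ b ∈ fil S j, (a * b) ^ p = a ^ p * b ^ p := fun a ha b hb =>
            mul_pow_fil hn hG hc (by omega) (by have := hpm j (by omega); omega) (ihd (2 * j) (by omega) (by omega)) ha hb
          let P : Subgroup S :=
            { carrier := {v | v ∈ fil S j ∧ v ^ p = 1}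
              one_mem' := ⟨one_mem _, one_pow _⟩
              mul_mem' := fun {a b} ha hb => ⟨mul_mem ha.1 hb.1, by rw [hmul a ha.1 b hb.1, ha.2, hb.2, one_mul]⟩
              inv_mem' := fun {a} ha => ⟨inv_mem ha.1, by rw [inv_pow, ha.2, inv_one]⟩ }
          suffices hle : fil S j ≤ P from (hle hw).2
          obtain ⟨i, rfl⟩ : ∃ i, j = i + 1 := ⟨j - 1, by omega⟩
          conv_lhs => rw [CfsgLib.MaxClassRank.fil_succ (show 1 ≤ i by omega)]
          rw [commutator_le]
          intro u hu g _
          refine ⟨fil_commutator_mem (i := i) (j := 1) hu (mem_top g), ?_⟩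
          have hu' : g * u⁻¹ * g⁻¹ ∈ fil S i := (CfsgLib.PolySeq.fil_normal i).conj_mem _ (inv_mem hu) g
          have h := mul_pow_fil hn hG hc (i := i) (by omega) (by have := hpm i (by omega); omega) (ihd (2 * i) (by omega) (by omega)) hu hu'
          rw [commutatorElement_def, show u * g * u⁻¹ * g⁻¹ = u * (g * u⁻¹ * g⁻¹) by group, h, conj_pow, inv_pow,
            ← hZ _ (inv_mem (F1 i (by omega) (by omega) u hu)) g, mul_inv_cancel_right, mul_inv_cancel]
      obtain ⟨z, hz, hz'⟩ := exists_gen hn hG hc (j := k') (by omega) hk2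
      have hzp : z ^ p ∈ fil S (k' + (p - 1)) ∧ z ^ p ∉ fil S (k' + p) := by
        obtain ⟨a, b⟩ := CfsgLib.MaxClassRank.pow_layer (n := n - 1) (by omega) hQ1 hQ2 hxq (n - 1) k' (by omega) hk2 _
          ((mem_fil_quot (show k' ≤ n - 1 by omega) z).mpr hz)
        rw [← map_pow] at a b
        refine ⟨(mem_fil_quot (by omega) _).mp a, fun h => b (by omega) ?_ ((mem_fil_quot (by omega) _).mpr h)⟩
        exact fun h' => hz' ((mem_fil_quot (by omega) _).mp h')
      have hle : twoStep S k' ≤ twoStep S (k' + (p - 1)) := by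
        intro g hg
        have hu : ⁅z, g⁆ ∈ fil S (k' + 2) := mem_twoStep.mp hg z hz
        have h := mul_pow_fil hn hG hc (i := k') hk2 (by have := hpm k' hk2; omega) (hA n (2 * k') (by omega) (by omega))
          (inv_mem hz) (show ⁅z, g⁆ ∈ fil S k' from fil_antitone (by omega) hu)
        rw [show z⁻¹ * ⁅z, g⁆ = g * z⁻¹ * g⁻¹ by rw [commutatorElement_def]; group, conj_pow,
          hA n (k' + 2) (by omega) le_rfl _ hu, mul_one, inv_pow] at h
        have hcomm : z ^ p * g = g * z ^ p := by
          have h' := congrArg (fun v => v⁻¹) h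
          simp only [mul_inv_rev, inv_inv] at h'
          rw [← mul_assoc, mul_inv_eq_iff_eq_mul] at h'
          exact h'.symm
        rw [mem_twoStep]
        intro w hw
        have hle : fil S (k' + (p - 1)) ≤ centralizer ({g} : Set S) := by
          rw [← CfsgLib.MaxClassRank.fil_layer hn hG hc (by omega) hzp.1
            (by rw [show k' + (p - 1) + 1 = k' + p by omega]; exact hzp.2), sup_le_iff, zpowers_le,
            mem_centralizer_singleton_iff]
          refine ⟨hcomm, fun v hv => mem_centralizer_singleton_iff.mpr (hZ v ?_ g)⟩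
          exact fil_antitone (by omega) hv
        rw [commutatorElement_eq_one_iff_mul_comm.mpr (mem_centralizer_singleton_iff.mp (hle hw))]
        exact one_mem _
      refine (eq_of_le_of_card_ge hle ?_).symm
      have h1 := (twoStep S k').card_mul_index
      have h2 := (twoStep S (k' + (p - 1))).card_mul_index
      rw [twoStep_index hn hG hc hk2 (by omega)] at h1
      rw [twoStep_index hn hG hc (by omega) hkn, ← h1] at h2
      exact (Nat.eq_of_mul_eq_mul_right hp.out.pos h2).le
    refine ⟨hper, ?_⟩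
    classical
    haveI := Fintype.ofFinite S
    let K : Finset ℕ := (Finset.Icc 2 p).filter fun k => k + 2 ≤ n
    let B : Finset S := (Finset.univ.filter fun g => g ∈ fil S 2) ∪
      K.biUnion fun k => Finset.univ.filter fun g => g ∈ twoStep S k
    have hB : B.card < Fintype.card S := by
      have hf : ∀ T : Subgroup S, (Finset.univ.filter fun g => g ∈ T).card = Nat.card T := fun T => by
        rw [Nat.card_eq_fintype_card, Fintype.card_subtype]
      have h1 : B.card ≤ p ^ (n - 2) + (p - 1) * p ^ (n - 1) := by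
        refine (Finset.card_union_le _ _).trans (Nat.add_le_add ?_ ?_)
        · rw [hf, CfsgLib.MaxClassRank.card_fil hn hG hc le_rfl (by omega)]
        · refine Finset.card_biUnion_le.trans ((Finset.sum_le_card_nsmul _ _ (p ^ (n - 1)) fun k hk => ?_).trans ?_)
          · obtain ⟨hk1, hk2⟩ := Finset.mem_filter.mp hk
            rw [Finset.mem_Icc] at hk1
            rw [hf]
            have h := (twoStep S k).card_mul_index
            rw [twoStep_index hn hG hc hk1.1 hk2, hG, show p ^ n = p ^ (n - 1) * p by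
              rw [← pow_succ, Nat.sub_add_cancel (by omega)]] at h
            exact (Nat.eq_of_mul_eq_mul_right hp.out.pos h).le
          · rw [smul_eq_mul]
            refine Nat.mul_le_mul_right _ ((Finset.card_filter_le _ _).trans ?_)
            rw [Nat.card_Icc]
            omega
      rw [← Nat.card_eq_fintype_card, hG]
      refine lt_of_le_of_lt h1 ?_
      have e1 : p ^ (n - 2) < p ^ (n - 1) := Nat.pow_lt_pow_right hp.out.one_lt (by omega)
      have e2 : p ^ n = p * p ^ (n - 1) := by rw [← pow_succ', Nat.sub_add_cancel (by omega)]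
      have e3 : (p - 1) * p ^ (n - 1) + p ^ (n - 1) = p * p ^ (n - 1) := by
        rw [← Nat.succ_mul, Nat.succ_eq_add_one, Nat.sub_add_cancel hp.out.pos]
      omega
    obtain ⟨x, hx⟩ : ∃ x, x ∉ B := by
      by_contra h
      push Not at h
      exact hB.not_ge ((Finset.card_le_card fun g _ => h g))
    simp only [B, K, Finset.mem_union, Finset.mem_filter, Finset.mem_univ, true_and, Finset.mem_biUnion,
      Finset.mem_Icc, not_or, not_exists, not_and] at hx
    refine ⟨x, hx.1, good_of_outside hn hG hc hx.1 ?_⟩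
    intro k
    induction k using Nat.strong_induction_on with
    | _ k ihk =>
      intro hk2 hkn
      rcases le_or_gt k p with hkp | hkp
      · exact hx.2 k ⟨⟨hk2, hkp⟩, hkn⟩
      · rw [hper k hkp hkn]
        exact ihk _ (by omega) (by omega) (by omega)

/-- An element with centralizer of order `p ^ 2`. -/
theorem exists_good : ∃ x : S, x ∉ fil S 2 ∧ Nat.card (centralizer ({x} : Set S)) = p ^ 2 :=
  (periodic_and_good n hn hG hc).2

/-- The `p`-th power map shifts the series by `p - 1`. -/
theorem pow_shift {i : ℕ} (h2 : 2 ≤ i) {z : S} (hz : z ∈ fil S i) :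
    z ^ p ∈ fil S (i + (p - 1)) ∧ (i + p ≤ n → z ∉ fil S (i + 1) → z ^ p ∉ fil S (i + p)) := by
  obtain ⟨x, -, hx⟩ := exists_good hn hG hc
  exact CfsgLib.MaxClassRank.pow_layer hn hG hc hx n i (by omega) h2 z hz

end CfsgLib.MaxClassGood
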