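import Cfsg.Agent.Lib.MaxClassGood.Basic

/-! A group of maximal class of order `p ^ (p + 1)` does not have exponent `p`. -/

set_option autoImplicit false

namespace CfsgLib.MaxClassGood

open scoped commutatorElement
open Subgroup
open CfsgLib.PolySeq (fil fil_antitone fil_commutator_mem)
open CfsgLib.MaxClassRank (C dl base sh e0 ker' comm_sh comm_base mem_ker' base_injective)

universe u

variable {S : Type u} [Group S] [Finite S] {p : ℕ} [hp : Fact p.Prime] {n : ℕ}
  (hn : 3 ≤ n) (hG : Nat.card S = p ^ n) (hc : Group.nilpotencyClass S = n - 1)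

include hn hG hc

/-- Coordinates on a layer. -/
theorem exists_coord {k : ℕ} (hk : 2 ≤ k) : ∃ θ : S → ZMod p,
    (∀ a ∈ fil S k, ∀ b ∈ fil S k, θ (a * b) = θ a + θ b) ∧ ∀ a ∈ fil S k, (θ a = 0 ↔ a ∈ fil S (k + 1)) := by
  classical
  rcases le_or_gt n k with h | h
  · refine ⟨fun _ => 0, fun a _ b _ => (add_zero _).symm, fun a ha => ⟨fun _ => ?_, fun _ => rfl⟩⟩
    rw [CfsgLib.MaxClassRank.fil_eq_bot hn hG hc h, mem_bot] at ha
    exact ha ▸ one_mem _
  set q := QuotientGroup.mk' (fil S (k + 1)) with hq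
  have hcard : Nat.card ((fil S k).map q) = p := by
    have h1 := Cfsg.Agent.S4143.card_map_mk (fil S (k + 1)) (fil S k) (fil_antitone (by omega))
    rw [CfsgLib.MaxClassRank.card_fil hn hG hc hk h.le, CfsgLib.MaxClassRank.card_fil hn hG hc (by omega) h,
      show n - k = n - (k + 1) + 1 by omega, pow_succ] at h1
    exact (Nat.eq_of_mul_eq_mul_left (pow_pos hp.out.pos _) h1).symm
  let e : (fil S k).map q ≃* Multiplicative (ZMod p) := mulEquivOfPrimeCardEq hcard (by simp)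
  refine ⟨fun c => if hc : c ∈ fil S k then (e ⟨q c, c, hc, rfl⟩).toAdd else 0, fun a ha b hb => ?_, fun a ha => ?_⟩
  · simp only [dif_pos (mul_mem ha hb), dif_pos ha, dif_pos hb]
    rw [← toAdd_mul, ← map_mul]
    exact congrArg (fun v => (e v).toAdd) (Subtype.ext (map_mul q a b))
  · simp only [dif_pos ha]
    rw [toAdd_eq_zero, EmbeddingLike.map_eq_one_iff, Subtype.ext_iff]
    exact QuotientGroup.eq_one_iff a

/-- A map additive on a layer and vanishing below is a multiple of the coordinate. -/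
theorem scalar_of_additive {k : ℕ} (hk : 2 ≤ k) {θ : S → ZMod p}
    (hadd : ∀ a ∈ fil S k, ∀ b ∈ fil S k, θ (a * b) = θ a + θ b) (hker : ∀ a ∈ fil S k, (θ a = 0 ↔ a ∈ fil S (k + 1)))
    (f : S → ZMod p) (fadd : ∀ a ∈ fil S k, ∀ b ∈ fil S k, f (a * b) = f a + f b)
    (fker : ∀ a ∈ fil S (k + 1), f a = 0) : ∃ β : ZMod p, ∀ a ∈ fil S k, f a = β * θ a := by
  rcases le_or_gt n k with h | h
  · refine ⟨0, fun a ha => ?_⟩
    rw [CfsgLib.MaxClassRank.fil_eq_bot hn hG hc h, mem_bot] at ha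
    rw [zero_mul, ha]
    exact fker 1 (one_mem _)
  obtain ⟨z, hz, hz'⟩ := exists_gen hn hG hc h hk
  have hθz : θ z ≠ 0 := fun e => hz' ((hker z hz).mp e)
  refine ⟨f z * (θ z)⁻¹, ?_⟩
  set β := f z * (θ z)⁻¹
  have h1 : θ 1 = 0 := (hker 1 (one_mem _)).mpr (one_mem _)
  have f1 : f 1 = 0 := fker 1 (one_mem _)
  let A : Subgroup S :=
    { carrier := {a | a ∈ fil S k ∧ f a = β * θ a}
      one_mem' := ⟨one_mem _, by rw [h1, f1, mul_zero]⟩
      mul_mem' := fun {a b} ha hb => ⟨mul_mem ha.1 hb.1, by rw [hadd a ha.1 b hb.1, fadd a ha.1 b hb.1, ha.2, hb.2, mul_add]⟩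
      inv_mem' := fun {a} ha => ⟨inv_mem ha.1, by
        have e1 := hadd a ha.1 _ (inv_mem ha.1)
        have e2 := fadd a ha.1 _ (inv_mem ha.1)
        rw [mul_inv_cancel, h1] at e1
        rw [mul_inv_cancel, f1, ha.2] at e2
        linear_combination β * e1 - e2⟩ }
  intro a ha
  have hle : fil S k ≤ A := by
    rw [← CfsgLib.MaxClassRank.fil_layer hn hG hc hk hz hz', sup_le_iff, zpowers_le]
    refine ⟨⟨hz, ?_⟩, fun v hv => ⟨fil_antitone (by omega) hv, ?_⟩⟩
    · show f z = f z * (θ z)⁻¹ * θ z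
      rw [inv_mul_cancel_right₀ hθz]
    · rw [fker v hv, (hker v (fil_antitone (by omega) hv)).mpr hv, mul_zero]
  exact (hle ha).2

/-- Commutation on the layers in coordinates. -/
theorem exists_beta {θ : ℕ → S → ZMod p}
    (hadd : ∀ k, 2 ≤ k → ∀ a ∈ fil S k, ∀ b ∈ fil S k, θ k (a * b) = θ k a + θ k b)
    (hker : ∀ k, 2 ≤ k → ∀ a ∈ fil S k, (θ k a = 0 ↔ a ∈ fil S (k + 1))) :
    ∃ β : ℕ → S → ZMod p, (∀ k, 2 ≤ k → ∀ a ∈ fil S k, ∀ g, θ (k + 1) ⁅a, g⁆ = β k g * θ k a) ∧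
      ∀ k, 2 ≤ k → k < n → ∀ (g : S) (m : ℕ), β k (g ^ m) = m * β k g := by
  have hzero : ∀ k, 2 ≤ k → ∀ a ∈ fil S (k + 1), θ k a = 0 := fun k hk a ha =>
    (hker k hk a (fil_antitone (by omega) ha)).mpr ha
  have h1 : ∀ k, 2 ≤ k → ∀ a ∈ fil S k, ∀ g, ⁅a, g⁆ ∈ fil S (k + 1) := fun k _ a ha g =>
    fil_commutator_mem (i := k) (j := 1) ha (mem_top g)
  have key : ∀ k g, ∃ b : ZMod p, 2 ≤ k → ∀ a ∈ fil S k, θ (k + 1) ⁅a, g⁆ = b * θ k a := by
    intro k g
    by_cases hk : 2 ≤ k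
    · refine (scalar_of_additive hn hG hc hk (hadd k hk) (hker k hk) (fun a => θ (k + 1) ⁅a, g⁆) ?_ ?_).imp
        fun b hb _ => hb
      · intro a ha b hb
        have e : ⁅a * b, g⁆ = ⁅a, ⁅b, g⁆⁆ * ⁅b, g⁆ * ⁅a, g⁆ := by simp only [commutatorElement_def]; group
        have h3 : ⁅a, ⁅b, g⁆⁆ ∈ fil S (k + 2) :=
          fil_antitone (by omega) (fil_commutator_mem (i := k) (j := k + 1) ha (h1 k hk b hb g))
        show θ (k + 1) ⁅a * b, g⁆ = _
        rw [e, hadd (k + 1) (by omega) _ (mul_mem (fil_antitone (by omega) h3) (h1 k hk b hb g)) _ (h1 k hk a ha g),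
          hadd (k + 1) (by omega) _ (fil_antitone (by omega) h3) _ (h1 k hk b hb g),
          hzero (k + 1) (by omega) _ h3, zero_add, add_comm]
      · intro a ha
        exact hzero (k + 1) (by omega) _ (fil_commutator_mem (i := k + 1) (j := 1) ha (mem_top g))
    · exact ⟨0, fun h => absurd h hk⟩
  choose β hβ using key
  have hβ' : ∀ k, 2 ≤ k → ∀ a ∈ fil S k, ∀ g, θ (k + 1) ⁅a, g⁆ = β k g * θ k a := fun k hk a ha g => hβ k g hk a ha
  refine ⟨β, hβ', fun k hk hkn g m => ?_⟩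
  obtain ⟨z, hz, hz'⟩ := exists_gen hn hG hc hkn hk
  have hθz : θ k z ≠ 0 := fun e => hz' ((hker k hk z hz).mp e)
  refine mul_right_cancel₀ hθz ?_
  rw [← hβ' k hk z hz, mul_assoc, ← hβ' k hk z hz]
  induction m with
  | zero => rw [pow_zero, commutatorElement_one_right, Nat.cast_zero, zero_mul, hzero (k + 1) (by omega) 1 (one_mem _)]
  | succ m ih =>
    have e : ⁅z, g ^ m * g⁆ = ⁅z, g ^ m⁆ * ⁅g ^ m, ⁅z, g⁆⁆ * ⁅z, g⁆ := by simp only [commutatorElement_def]; group
    have h3 : ⁅g ^ m, ⁅z, g⁆⁆ ∈ fil S (k + 2) :=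
      fil_antitone (by omega) (fil_commutator_mem (i := 1) (j := k + 1) (mem_top _) (h1 k hk z hz g))
    rw [pow_succ, e, hadd (k + 1) (by omega) _ (mul_mem (h1 k hk z hz _) (fil_antitone (by omega) h3)) _ (h1 k hk z hz g),
      hadd (k + 1) (by omega) _ (h1 k hk z hz _) _ (fil_antitone (by omega) h3),
      hzero (k + 1) (by omega) _ h3, add_zero, ih, Nat.cast_succ, add_one_mul]

set_option maxHeartbeats 1000000 in
/-- In order `p ^ (p + 1)` some element has order greater than `p`. -/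
theorem exists_pow_ne_one (hnp : n = p + 1) : ∃ s : S, s ^ p ≠ 1 := by
  classical
  by_contra hexp
  push Not at hexp
  have hp2 := hp.out.two_le
  have hS : IsPGroup p S := IsPGroup.of_card hG
  obtain ⟨x, hx2, hx⟩ := exists_good hn hG hc
  obtain ⟨a, b, hab⟩ := CfsgLib.MaximalClass.exists_noncomm hn hG hc
  obtain ⟨y, hy⟩ : ∃ y, y ∉ zpowers x ⊔ commutator S := not_forall.mp fun h =>
    CfsgLib.Regular.zpowers_sup_commutator_ne_top hS hab x (eq_top_iff.mpr fun g _ => h g)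
  have hfil2 : fil S 2 = commutator S := Subgroup.top_lowerCentralSeries_one
  have hgenS : closure ({x, y} : Set S) = ⊤ := by
    refine CfsgLib.Regular.eq_top_of_sup_commutator hS (eq_top_of_le_card _ ?_)
    have hgrow : ∀ A B : Subgroup S, A < B → Nat.card A * p ≤ Nat.card B := by
      intro A B hAB
      obtain ⟨a, -, ha⟩ := (Nat.dvd_prime_pow hp.out).mp (hG ▸ card_subgroup_dvd_card A)
      obtain ⟨b, -, hb⟩ := (Nat.dvd_prime_pow hp.out).mp (hG ▸ card_subgroup_dvd_card B)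
      have h1 : Nat.card A < Nat.card B :=
        lt_of_le_of_ne (card_le_of_le hAB.le) fun e => hAB.ne (eq_of_le_of_card_ge hAB.le e.ge)
      rw [ha, hb, Nat.pow_lt_pow_iff_right hp.out.one_lt] at h1
      rw [ha, hb, ← pow_succ]
      exact Nat.pow_le_pow_right hp.out.pos h1
    have h1 : commutator S < zpowers x ⊔ commutator S :=
      lt_of_le_of_ne le_sup_right fun e => hx2 (hfil2.symm ▸ e.ge (mem_sup_left (mem_zpowers x)))
    have h2 : zpowers x ⊔ commutator S < closure ({x, y} : Set S) ⊔ commutator S :=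
      lt_of_le_of_ne (sup_le_sup_right (zpowers_le.mpr (subset_closure (by simp))) _) fun e =>
        hy (e.ge (mem_sup_left (subset_closure (by simp))))
    have h3 := (Nat.mul_le_mul_right p (hgrow _ _ h1)).trans (hgrow _ _ h2)
    rw [← hfil2, CfsgLib.MaxClassRank.card_fil hn hG hc le_rfl (by omega), mul_assoc, ← pow_two, ← pow_add,
      Nat.sub_add_cancel (by omega), hfil2] at h3
    rw [hG]
    exact h3
  have hyx : ⁅y, x⁆ ∉ fil S 3 := by
    intro h
    obtain ⟨z, hz, hz'⟩ := exists_gen hn hG hc (j := 2) (by omega) le_rfl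
    refine hz' ?_
    rw [CfsgLib.MaxClassRank.fil_succ (show 1 ≤ 1 from le_rfl)] at hz
    have hc' : closure ({x, y} : Set S) ≤ CfsgLib.MaxClassRank.centralMod (fil S 3) := by
      rw [closure_le]
      rintro w (rfl | rfl)
      · refine CfsgLib.MaxClassRank.mem_centralMod_gens hgenS (by rw [commutatorElement_self]; exact one_mem _) ?_
        rw [← commutatorElement_inv]
        exact inv_mem h
      · exact CfsgLib.MaxClassRank.mem_centralMod_gens hgenS h (by rw [commutatorElement_self]; exact one_mem _)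
    have hle : ⁅fil S 1, (⊤ : Subgroup S)⁆ ≤ fil S 3 := by
      rw [commutator_le]
      exact fun g _ g' _ => CfsgLib.MaxClassRank.mem_centralMod.mp (hc' (hgenS.ge (mem_top g))) g'
    exact hle hz
  have hcoord : ∀ k, ∃ θ : S → ZMod p, 2 ≤ k →
      (∀ a ∈ fil S k, ∀ b ∈ fil S k, θ (a * b) = θ a + θ b) ∧ ∀ a ∈ fil S k, (θ a = 0 ↔ a ∈ fil S (k + 1)) := by
    intro k
    by_cases hk : 2 ≤ k
    · obtain ⟨θ, hθ⟩ := exists_coord hn hG hc hk
      exact ⟨θ, fun _ => hθ⟩
    · exact ⟨fun _ => 0, fun h => absurd h hk⟩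
  choose θ hθ using hcoord
  have hadd := fun k hk => (hθ k hk).1
  have hker := fun k hk => (hθ k hk).2
  obtain ⟨β, hβ, hβpow⟩ := exists_beta hn hG hc hadd hker
  have hzero : ∀ k, 2 ≤ k → ∀ a ∈ fil S (k + 1), θ k a = 0 := fun k hk a ha =>
    (hker k hk a (fil_antitone (by omega) ha)).mpr ha
  have hθ1 : ∀ k, 2 ≤ k → θ k 1 = 0 := fun k hk => hzero k hk 1 (one_mem _)
  let Λ := (ZMod p)ˣ
  let yf : Λ → S := fun l => y ^ (l : ZMod p).val
  -- the linearity of the iterated commutators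
  have hite : ∀ (j : ℕ) (g : S), (fun w => ⁅w, x⁆)^[j] g ∈ fil S (1 + j) := fun j g =>
    CfsgLib.MaxClassRank.iterate_mem (x := x) (show g ∈ fil S 1 from mem_top g) j
  have hlin : ∀ j, 1 ≤ j → ∀ m : ℕ,
      θ (j + 1) ((fun w => ⁅w, x⁆)^[j] (y ^ m)) = m * θ (j + 1) ((fun w => ⁅w, x⁆)^[j] y) := by
    intro j hj m
    induction j, hj using Nat.le_induction with
    | base =>
      simp only [Function.iterate_one]
      have hc2 : ∀ g, ⁅g, x⁆ ∈ fil S 2 := fun g => fil_commutator_mem (i := 1) (j := 1) (mem_top g) (mem_top x)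
      induction m with
      | zero => rw [pow_zero, commutatorElement_one_left, Nat.cast_zero, zero_mul, hθ1 2 le_rfl]
      | succ m ih =>
        have e : ⁅y ^ m * y, x⁆ = ⁅y ^ m, ⁅y, x⁆⁆ * ⁅y, x⁆ * ⁅y ^ m, x⁆ := by simp only [commutatorElement_def]; group
        have h3 : ⁅y ^ m, ⁅y, x⁆⁆ ∈ fil S 3 := fil_commutator_mem (i := 1) (j := 2) (mem_top _) (hc2 y)
        rw [pow_succ, e, hadd 2 le_rfl _ (mul_mem (fil_antitone (by omega) h3) (hc2 _)) _ (hc2 _),
          hadd 2 le_rfl _ (fil_antitone (by omega) h3) _ (hc2 _), hzero 2 le_rfl _ h3, zero_add, ih, Nat.cast_succ,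
          add_one_mul, add_comm]
    | succ j hj ih =>
      have hm : ∀ g, (fun w => ⁅w, x⁆)^[j] g ∈ fil S (j + 1) := fun g => by rw [add_comm]; exact hite j g
      rw [Function.iterate_succ_apply', Function.iterate_succ_apply', hβ (j + 1) (by omega) _ (hm _),
        hβ (j + 1) (by omega) _ (hm _), ih, mul_left_comm]
  -- the subgroup of the product
  have : Finite (RegularWreathProduct (C p) (C p)) :=
    Finite.of_injective (fun w => (w.left, w.right)) fun a b e =>
      RegularWreathProduct.ext (congrArg Prod.fst e) (congrArg Prod.snd e)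
  set K : Subgroup ((Λ → S) × RegularWreathProduct (C p) (C p)) := closure {((fun _ => x), sh p), (yf, base p (e0 p))}
    with hK
  set X : K := ⟨((fun _ => x), sh p), subset_closure (by simp)⟩ with hX
  set Y : K := ⟨(yf, base p (e0 p)), subset_closure (by simp)⟩ with hY
  have hgen : closure ({X, Y} : Set K) = ⊤ := by
    refine map_injective K.subtype_injective ?_
    rw [MonoidHom.map_closure, Set.image_pair, ← MonoidHom.range_eq_map, range_subtype]
    exact hK.symm
  let E : ℕ → K := fun k => (fun g => ⁅g, X⁆)^[k - 1] Y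
  have hEc : ∀ k, ((E k : K) : (Λ → S) × RegularWreathProduct (C p) (C p)) =
      ((fun l => (fun g => ⁅g, x⁆)^[k - 1] (yf l)), base p ((dl p)^[k - 1] (e0 p))) := by
    intro k
    show (((fun g => ⁅g, X⁆)^[k - 1] Y : K) : (Λ → S) × RegularWreathProduct (C p) (C p)) = _
    generalize k - 1 = m
    induction m with
    | zero => rfl
    | succ m ihm =>
      rw [Function.iterate_succ_apply', Function.iterate_succ_apply', ← comm_sh]
      calc _ = ⁅(((fun g => ⁅g, X⁆)^[m] Y : K) : (Λ → S) × RegularWreathProduct (C p) (C p)), ((fun _ => x), sh p)⁆ := rfl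
        _ = _ := by
          rw [ihm]
          refine Prod.ext (funext fun l => ?_) rfl
          show ⁅(fun g => ⁅g, x⁆)^[m] (yf l), x⁆ = (fun g => ⁅g, x⁆)^[m + 1] (yf l)
          rw [Function.iterate_succ_apply']
  let ann : ℕ → (Λ → ZMod p) → Prop := fun k w => ∀ j, 2 ≤ j → j < k → ∑ l, w l * (l : ZMod p) ^ j = 0
  let Dp : ℕ → Subgroup (Λ → S) := fun k =>
    { carrier := {f | (∀ l, f l ∈ fil S (max k 2)) ∧ (2 ≤ k → ∀ w, ann k w → ∑ l, w l * θ k (f l) = 0)}
      one_mem' := ⟨fun _ => one_mem _, fun hk w _ => by simp [hθ1 k hk]⟩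
      mul_mem' := fun {f g} hf hg => ⟨fun l => mul_mem (hf.1 l) (hg.1 l), fun hk w hw => by
        have hm : ∀ (f : Λ → S), (∀ l, f l ∈ fil S (max k 2)) → ∀ l, f l ∈ fil S k := fun f hf l =>
          fil_antitone (le_max_left _ _) (hf l)
        simp only [Pi.mul_apply, hadd k hk _ (hm f hf.1 _) _ (hm g hg.1 _), mul_add, Finset.sum_add_distrib,
          hf.2 hk w hw, hg.2 hk w hw, add_zero]⟩
      inv_mem' := fun {f} hf => ⟨fun l => inv_mem (hf.1 l), fun hk w hw => by
        have hinv : ∀ l, θ k (f⁻¹ l) = -θ k (f l) := fun l => by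
          have hm : f l ∈ fil S k := fil_antitone (le_max_left _ _) (hf.1 l)
          have e1 := hadd k hk _ hm _ (inv_mem hm)
          rw [mul_inv_cancel, hθ1 k hk] at e1
          rw [Pi.inv_apply]
          linear_combination -e1
        simp only [hinv, mul_neg, Finset.sum_neg_distrib, hf.2 hk w hw, neg_zero]⟩ }
  let D : ℕ → Subgroup K := fun k => ((Dp k).prod (ker' p k)).comap K.subtype
  have hkm : ∀ k u, base p u ∈ ker' p k ↔ (dl p)^[p - k] u = 1 := fun k u => mem_map_iff_mem (base_injective p)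
  have hsub : ∀ k f, (∀ l, f l ∈ fil S (max (k + 1) 2)) → f ∈ Dp k := fun k f hf =>
    ⟨fun l => fil_antitone (by omega) (hf l), fun hk w _ => Finset.sum_eq_zero fun l _ => by
      rw [hzero k hk _ (fil_antitone (by omega) (hf l)), mul_zero]⟩
  have hDle : ∀ k, 1 ≤ k → D (k + 1) ≤ D k := by
    intro k _ a ha
    obtain ⟨h1, h1'⟩ := ha
    obtain ⟨u, hu, hu'⟩ := (mem_ker' p).mp h1'
    refine ⟨hsub k _ h1.1, ?_⟩
    rw [← hu']
    refine (hkm k u).mpr ?_
    rcases lt_or_ge k p with hkp | hkp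
    · rw [show p - k = p - (k + 1) + 1 by omega, Function.iterate_succ_apply']
      exact (congrArg (dl p) hu).trans (map_one _)
    · rwa [show p - k = p - (k + 1) by omega]
  have hED : ∀ k, 1 ≤ k → E (k + 1) ∈ D k := fun k hk => by
    show _ ∈ (Dp k).prod (ker' p k)
    rw [coe_subtype, hEc, show k + 1 - 1 = k by omega]
    refine ⟨hsub k _ fun l => fil_antitone (by omega) (hite k (yf l)), (hkm k _).mpr ?_⟩
    rw [← Function.iterate_add_apply]
    exact CfsgLib.MaxClassRank.iterate_zero p (by omega)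
  have hyθ : ∀ k, 2 ≤ k → ∀ (l : Λ), ∀ a ∈ fil S k, θ (k + 1) ⁅a, yf l⁆ = (l : ZMod p) * β k y * θ k a := by
    intro k hk l a ha
    rcases le_or_gt n k with hkn | hkn
    · rw [CfsgLib.MaxClassRank.fil_eq_bot hn hG hc hkn, mem_bot] at ha
      rw [ha, commutatorElement_one_left, hθ1 (k + 1) (by omega), hθ1 k hk, mul_zero]
    rw [hβ k hk a ha, hβpow k hk hkn, ZMod.natCast_zmod_val]
  have hD : ∀ k, 1 ≤ k → ∀ a ∈ D k, ⁅a, X⁆ ∈ D (k + 1) ∧ ⁅a, Y⁆ ∈ D (k + 1) := by
    intro k hk a ha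
    obtain ⟨⟨h1, h2⟩, h1'⟩ := ha
    obtain ⟨u, hu, hu'⟩ := (mem_ker' p).mp h1'
    simp only [coe_subtype] at h1 h2 hu'
    have hmem : ∀ (l : Λ) g, ⁅(a.1).1 l, g⁆ ∈ fil S (max (k + 1) 2) := fun l g =>
      fil_antitone (by omega) (fil_commutator_mem (i := max k 2) (j := 1) (h1 l) (mem_top g))
    have hmem2 : k = 1 → ∀ (l : Λ) g, θ (k + 1) ⁅(a.1).1 l, g⁆ = 0 := fun hk1 l g =>
      hzero (k + 1) (by omega) _ (fil_antitone (by omega) (fil_commutator_mem (i := max k 2) (j := 1) (h1 l) (mem_top g)))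
    refine ⟨⟨⟨fun l => hmem l x, fun _ w hw => ?_⟩, ?_⟩, ⟨⟨fun l => hmem l (yf l), fun _ w hw => ?_⟩, ?_⟩⟩
    · show ∑ l, w l * θ (k + 1) ⁅(a.1).1 l, x⁆ = 0
      rcases (show k = 1 ∨ 2 ≤ k by omega) with hk1 | hk2
      · exact Finset.sum_eq_zero fun l _ => by rw [hmem2 hk1, mul_zero]
      have h3 := h2 hk2 w fun j hj hjk => hw j hj (by omega)
      calc ∑ l : Λ, w l * θ (k + 1) ⁅(a.1).1 l, x⁆
          = β k x * ∑ l : Λ, w l * θ k ((a.1).1 l) := by
            rw [Finset.mul_sum]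
            exact Finset.sum_congr rfl fun l _ => by
              rw [hβ k hk2 _ (fil_antitone (le_max_left _ _) (h1 l))]; ring
        _ = 0 := by rw [h3, mul_zero]
    · show ⁅(a.1).2, sh p⁆ ∈ _
      rw [show (a.1).2 = base p u from hu'.symm, comm_sh]
      refine (hkm _ _).mpr ?_
      rcases lt_or_ge k p with hkp | hkp
      · rw [← Function.iterate_succ_apply, show (p - (k + 1)).succ = p - k by omega]
        exact hu
      · have hu1 : u = 1 := by rw [show p - k = 0 by omega] at hu; exact hu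
        rw [hu1, map_one, iterate_map_one]
    · show ∑ l, w l * θ (k + 1) ⁅(a.1).1 l, yf l⁆ = 0
      rcases (show k = 1 ∨ 2 ≤ k by omega) with hk1 | hk2
      · exact Finset.sum_eq_zero fun l _ => by rw [hmem2 hk1, mul_zero]
      have h3 := h2 hk2 (fun l => w l * (l : ZMod p)) fun j hj hjk => by
        have := hw (j + 1) (by omega) (by omega)
        simpa [pow_succ', mul_assoc] using this
      calc ∑ l : Λ, w l * θ (k + 1) ⁅(a.1).1 l, yf l⁆
          = β k y * ∑ l : Λ, w l * (l : ZMod p) * θ k ((a.1).1 l) := by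
            rw [Finset.mul_sum]
            exact Finset.sum_congr rfl fun l _ => by
              rw [hyθ k hk2 l _ (fil_antitone (le_max_left _ _) (h1 l))]; ring
        _ = 0 := by rw [h3, mul_zero]
    · show ⁅(a.1).2, base p (e0 p)⁆ ∈ _
      rw [show (a.1).2 = base p u from hu'.symm, comm_base]
      exact one_mem _
  have hEY : ∀ k, 1 ≤ k → ⁅E k, Y⁆ ∈ D (k + 1) := fun k hk => by
    show ⁅(E k : (Λ → S) × RegularWreathProduct (C p) (C p)), (Y : (Λ → S) × RegularWreathProduct (C p) (C p))⁆ ∈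
      (Dp (k + 1)).prod (ker' p (k + 1))
    rw [hEc]
    refine ⟨⟨fun l => ?_, fun _ w hw => ?_⟩, ?_⟩
    · show ⁅(fun g => ⁅g, x⁆)^[k - 1] (yf l), yf l⁆ ∈ _
      exact fil_antitone (by omega) (fil_commutator_mem (i := 1 + (k - 1)) (j := 1) (hite (k - 1) (yf l)) (mem_top _))
    · show ∑ l, w l * θ (k + 1) ⁅(fun g => ⁅g, x⁆)^[k - 1] (yf l), yf l⁆ = 0
      rcases (show k = 1 ∨ 2 ≤ k by omega) with hk1 | hk2
      · subst hk1
        exact Finset.sum_eq_zero fun l _ => by
          simp [commutatorElement_self, hθ1]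
      obtain ⟨j, rfl⟩ : ∃ j, k = j + 1 := ⟨k - 1, by omega⟩
      rw [Nat.add_sub_cancel]
      have hm : ∀ g, (fun w => ⁅w, x⁆)^[j] g ∈ fil S (j + 1) := fun g => by rw [add_comm]; exact hite j g
      calc ∑ l : Λ, w l * θ (j + 1 + 1) ⁅(fun g => ⁅g, x⁆)^[j] (yf l), yf l⁆
          = ∑ l : Λ, w l * ((l : ZMod p) * β (j + 1) y * ((l : ZMod p) * θ (j + 1) ((fun g => ⁅g, x⁆)^[j] y))) :=
            Finset.sum_congr rfl fun l _ => by
              rw [hyθ (j + 1) hk2 l _ (hm _), hlin j (by omega), ZMod.natCast_zmod_val]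
        _ = β (j + 1) y * θ (j + 1) ((fun g => ⁅g, x⁆)^[j] y) * ∑ l : Λ, w l * (l : ZMod p) ^ 2 := by
            rw [Finset.mul_sum]; exact Finset.sum_congr rfl fun l _ => by ring
        _ = 0 := by rw [hw 2 le_rfl (by omega), mul_zero]
    · show ⁅base p _, base p (e0 p)⁆ ∈ _
      rw [comm_base]
      exact one_mem _
  have hR := CfsgLib.MaxClassRank.fil_le hgen E D rfl (fun k hk => by
    show (fun g => ⁅g, X⁆)^[k + 1 - 1] Y = ⁅(fun g => ⁅g, X⁆)^[k - 1] Y, X⁆
    rw [show k + 1 - 1 = k - 1 + 1 by omega, Function.iterate_succ_apply']) hDle hED hD hEY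
  have hcomm : commutator K ≤ D 1 := by
    refine le_trans ?_ (((hR 2 le_rfl).1).trans (sup_le (zpowers_le.mpr (hED 1 le_rfl)) (hDle 1 le_rfl)))
    exact (Subgroup.top_lowerCentralSeries_one (G := K)).ge
  have hpow : ∀ a ∈ commutator K, a ^ p ∈ D p := fun a ha => by
    obtain ⟨h1, h1'⟩ := hcomm ha
    obtain ⟨u, -, hu'⟩ := (mem_ker' p).mp h1'
    refine ⟨?_, ?_⟩
    · show (a.1).1 ^ p ∈ _
      have : (a.1).1 ^ p = 1 := funext fun l => hexp _
      rw [this]
      exact one_mem _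
    · show (a.1).2 ^ p ∈ _
      rw [show (a.1).2 = base p u from hu'.symm, CfsgLib.MaxClassRank.base_pow_p]
      exact one_mem _
  have : (fil K p).Normal := CfsgLib.PolySeq.fil_normal p
  set q := QuotientGroup.mk' (fil K p) with hq
  have hcl : (⊤ : Subgroup (K ⧸ fil K p)).lowerCentralSeries (p - 1) = ⊥ := by
    rw [← map_top_of_surjective q (QuotientGroup.mk'_surjective _), ← Subgroup.map_lowerCentralSeries, eq_bot_iff]
    rintro _ ⟨a, ha, rfl⟩
    exact mem_bot.mpr ((QuotientGroup.eq_one_iff a).mpr ha)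
  obtain ⟨c, hc1, hc2⟩ := CfsgLib.PolySeq.mul_pow_prime hcl (q X) (q Y)
  have hcD : c ∈ (D p).map q := by
    refine ((closure_le _).mpr ?_) hc1
    rintro _ ⟨w, hw, rfl⟩
    rw [_root_.commutator_def, ← map_top_of_surjective q (QuotientGroup.mk'_surjective _), ← map_commutator] at hw
    obtain ⟨a, ha, rfl⟩ := hw
    exact ⟨a ^ p, hpow a ha, map_pow _ _ _⟩
  obtain ⟨dd, hdd, rfl⟩ := hcD
  rw [← map_mul, ← map_pow, ← map_pow, ← map_pow, ← map_mul, ← map_mul] at hc2
  have hT : (X ^ p * Y ^ p)⁻¹ * (X * Y) ^ p ∈ zpowers (E p) ⊔ D p := by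
    have h := (hR p hp2).1 (QuotientGroup.eq.mp hc2.symm)
    rw [show (X ^ p * Y ^ p * dd)⁻¹ * (X * Y) ^ p = dd⁻¹ * ((X ^ p * Y ^ p)⁻¹ * (X * Y) ^ p) by group] at h
    simpa using mul_mem (mem_sup_right hdd : dd ∈ zpowers (E p) ⊔ D p) h
  have hDn : (D p).Normal :=
    CfsgLib.MaxClassRank.normal_of_gens hgen fun a ha =>
      ⟨hDle p (by omega) (hD p (by omega) a ha).1, hDle p (by omega) (hD p (by omega) a ha).2⟩
  obtain ⟨_, ha', dd', hdd', heq⟩ := mem_sup_of_normal_right.mp hT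
  obtain ⟨a, rfl⟩ := mem_zpowers_iff.mp ha'
  have heq' := congrArg Subtype.val heq
  simp only [Subgroup.coe_mul, Subgroup.coe_inv, SubmonoidClass.coe_pow, SubgroupClass.coe_zpow, hEc, hX, hY,
    Prod.mk_mul_mk, Prod.pow_mk] at heq'
  obtain ⟨⟨hd1, hd2⟩, hd1'⟩ := hdd'
  obtain ⟨u, hu, hu'⟩ := (mem_ker' p).mp hd1'
  have hu1 : u = 1 := by rw [Nat.sub_self] at hu; exact hu
  simp only [coe_subtype] at hd1 hd2 hu'
  have hds : (dd'.1).2 = 1 := by rw [show (dd'.1).2 = base p u from hu'.symm, hu1, map_one]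
  have hW := congrArg Prod.snd heq'
  simp only [Prod.snd_mul, Prod.snd_inv, hds, mul_one, CfsgLib.MaxClassRank.sh_pow_p,
    CfsgLib.MaxClassRank.base_pow_p, inv_one, one_mul, CfsgLib.MaxClassRank.mul_pow_top] at hW
  have hF : base p ((dl p)^[p - 1] (e0 p)) ^ (a - 1) = 1 := by rw [zpow_sub_one, hW, mul_inv_cancel]
  have hord : orderOf (base p ((dl p)^[p - 1] (e0 p))) = p := by
    refine orderOf_eq_prime (CfsgLib.MaxClassRank.base_pow_p p _) fun e => ?_
    rw [← map_one (base p)] at e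
    have e' := congrFun (base_injective p e) 1
    rw [CfsgLib.MaxClassRank.iterate_top] at e'
    exact one_ne_zero (α := ZMod p) (congrArg Multiplicative.toAdd e')
  obtain ⟨m, hm⟩ := orderOf_dvd_iff_zpow_eq_one.mpr hF
  rw [hord] at hm
  have hL : ∀ l : Λ, ((fun g => ⁅g, x⁆)^[p - 1] (yf l)) ^ a * (dd'.1).1 l = 1 := by
    intro l
    have h := congrFun (congrArg Prod.fst heq') l
    simp only [Prod.fst_mul, Prod.fst_inv, Pi.mul_apply, Pi.inv_apply, Pi.pow_apply, hexp, one_mul, inv_one] at h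
    exact h
  have hmemp : ∀ g, (fun w => ⁅w, x⁆)^[p - 1] g ∈ fil S p := fun g => by
    have := hite (p - 1) g
    rwa [show 1 + (p - 1) = p by omega] at this
  have hzp : ∀ (g : S), g ∈ fil S p → ∀ i : ℤ, θ p (g ^ i) = i * θ p g := by
    intro g hg i
    induction i using Int.induction_on with
    | zero => simp [hθ1 p hp2]
    | succ i ih =>
      rw [zpow_add_one, hadd p hp2 _ (zpow_mem hg _) _ hg, ih]
      push_cast; ring
    | pred i ih =>
      have h := hadd p hp2 _ (zpow_mem hg (-(i : ℤ) - 1)) _ hg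
      rw [← zpow_add_one, sub_add_cancel, ih] at h
      push_cast at h ⊢
      linear_combination -h
  have ha1 : (a : ZMod p) = 1 := by
    rw [show a = 1 + (p : ℤ) * m by omega]
    push_cast
    rw [ZMod.natCast_self]; ring
  set e1 := (fun g => ⁅g, x⁆)^[p - 1] y with he1
  have hd : ∀ l : Λ, θ p ((dd'.1).1 l) = -((l : ZMod p) * θ p e1) := by
    intro l
    have hmd : (dd'.1).1 l ∈ fil S p := fil_antitone (le_max_left _ _) (hd1 l)
    have h := hadd p hp2 _ (zpow_mem (hmemp (yf l)) a) _ hmd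
    rw [hL l, hθ1 p hp2, hzp _ (hmemp _), ha1, one_mul] at h
    have h' := hlin (p - 1) (by omega) (l : ZMod p).val
    rw [show p - 1 + 1 = p by omega, ZMod.natCast_zmod_val] at h'
    rw [h'] at h
    linear_combination -h
  have hsum := hd2 hp2 (fun l => ((l⁻¹ : Λ) : ZMod p)) fun j hj hjp => by
    have e : ∀ l : Λ, ((l⁻¹ : Λ) : ZMod p) * (l : ZMod p) ^ j = (l : ZMod p) ^ (j - 1) := fun l => by
      conv_lhs => rw [show j = 1 + (j - 1) by omega, pow_add, pow_one, ← mul_assoc, ← Units.val_mul,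
        inv_mul_cancel, Units.val_one, one_mul]
    rw [Finset.sum_congr rfl fun l _ => e l]
    rw [FiniteField.sum_pow_units, if_neg]
    rw [ZMod.card]
    intro h
    exact absurd (Nat.le_of_dvd (by omega) h) (by omega)
  rw [Finset.sum_congr rfl fun l _ => congrArg _ (hd l)] at hsum
  have he : θ p e1 = 0 := by
    have e : ∀ l : Λ, ((l⁻¹ : Λ) : ZMod p) * -((l : ZMod p) * θ p e1) = -θ p e1 := fun l => by
      rw [mul_neg, ← mul_assoc, ← Units.val_mul, inv_mul_cancel, Units.val_one, one_mul]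
    simp only [e, Finset.sum_const, Finset.card_univ, nsmul_eq_mul] at hsum
    rw [show Fintype.card Λ = p - 1 from ZMod.card_units p] at hsum
    rw [Nat.cast_sub hp.out.one_le, ZMod.natCast_self] at hsum
    simpa using hsum
  have hmem : e1 ∈ fil S (p + 1) := (hker p hp2 _ (hmemp y)).mp he
  have h := CfsgLib.MaxClassRank.iterate_not_mem hn hG hc hx (i := 2) le_rfl
    (z := ⁅y, x⁆) (fil_commutator_mem (i := 1) (j := 1) (mem_top y) (mem_top x)) hyx (p - 2) (by omega)
  refine h ?_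
  rw [show 2 + (p - 2) + 1 = p + 1 by omega]
  have e : e1 = (fun g => ⁅g, x⁆)^[p - 2] ⁅y, x⁆ := by
    rw [he1, show p - 1 = p - 2 + 1 by omega, Function.iterate_succ_apply]
  exact e ▸ hmem

end CfsgLib.MaxClassGood
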